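import Mathlib
import Cfsg.Agent.Glaub.Section
import Cfsg.Agent.PLocal.PStable

/-! Control of strong fusion by `N(Z(J(S)))` in the absence of `SL(2,p)`. -/

namespace Cfsg.Agent.Transfer

open Subgroup Cfsg.Agent.LocalEven Cfsg.Agent.Glaub
open scoped MatrixGroups

universe u

variable {G : Type u} [Group G] {p : ℕ} [hp : Fact p.Prime] [Finite G]

/-- The well-placed criterion only needs the subgroups containing `Z(S)` when `W ≥ Z`. -/
theorem sf_of_wp_center {W : Subgroup G → Subgroup G} (hW : IsConjugacyFunctor p W)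
    (hWZ : ∀ P : Subgroup G, IsPGroup p P → P ⊓ 𝐂⟮P⟯ ≤ W P)
    {S : Subgroup G} (hS : IsSylowIn p S ⊤)
    (hloc : ∀ U, S ⊓ 𝐂⟮S⟯ ≤ U → U ≠ ⊥ → IsWellPlaced p W S U → SF {W} 𝐍⟮U⟯ (S ⊓ 𝐍⟮U⟯)) :
    SF {W} ⊤ S := by
  have hQ : ∀ U, S ⊓ 𝐂⟮S⟯ ≤ U → U ≠ ⊥ → IsWellPlaced p W S U → ∀ A, A ≤ S ⊓ 𝐍⟮U⟯ →
      ∀ x ∈ 𝐍⟮U⟯, cj x A ≤ S ⊓ 𝐍⟮U⟯ → Fus (FE {W} ⊤ S) S A x := by
    refine down_sub (fun U => S ⊓ 𝐍⟮U⟯) fun U ih hZ hne hU A hA x hx hxA => ?_
    refine (hloc U hZ hne hU A hA x hx hxA).bind hA ?_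
    rintro B z hB hzB ⟨_, rfl, hz⟩
    rcases (inf_le_left : S ⊓ 𝐍⟮U⟯ ≤ S).eq_or_lt with e | hlt
    · rw [e] at hz hzB
      exact Fus.single ⟨_, rfl, mem_top _, hz.2⟩ hzB
    · have l1 := card_lt_next hW hS.pgrp hlt
      refine ih _ (card_lt_of_lt l1) (le_trans ?_ (hWZ _ hS.pgrp.to_inf_left))
        (hW.glaub_ne hS.pgrp.to_inf_left
        fun e => hne (eq_bot_iff.2 (e ▸ le_inf hU.1 le_normalizer)))
        ((wp_iff hW hS.pgrp).1 hU).2.2 B (hB.trans l1.le) z hz.2 (hzB.trans l1.le)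
      exact le_inf (le_inf inf_le_left (hZ.trans le_normalizer))
        (inf_le_right.trans (cent_anti inf_le_left))
  intro A hA g _
  refine alperin hS (fun T g => Fus (FE {W} ⊤ S) S T g)
    (fun T g h _ _ _ _ _ p1 p2 => p1.comp p2) (fun T T' g h _ _ p1 => p1.res h)
    (fun T hT ih => ?_) A hA g (mem_top _)
  obtain ⟨x, -, hU⟩ := exists_wp hW hS T hT
  have hext := ((wp_iff hW hS.pgrp).1 hU).2.1
  refine ⟨_, hU.1, ⟨x, mem_top _, rfl⟩, hext, fun n _ hn => ?_⟩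
  rw [← card_cj x T] at ih
  generalize cj x T = U at hU hext ih hn
  have hUR : U ≤ S ⊓ 𝐍⟮U⟯ := le_inf hU.1 le_normalizer
  by_cases hne : U = ⊥
  · subst hne; exact .base (by rw [mem_cent]; intro t ht; rw [mem_bot.1 ht]; simp)
  by_cases hZ : S ⊓ 𝐂⟮S⟯ ≤ U
  · exact hQ U hZ hne hU U hUR n hn (by rwa [cj_eq_of_mem_normalizer hn])
  · have h1 : IsSylowIn p (S ⊓ 𝐂⟮U⟯) 𝐂⟮U⟯ := by
      have := IsSylowIn.inf_of_le_normalizer (N := 𝐂⟮U⟯) hext
        (le_inf le_top (centralizer_le_normalizer _))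
        (inf_le_right.trans (normalizer_le_normalizer_centralizer U))
      rwa [inf_assoc, inf_eq_right.2 (centralizer_le_normalizer _)] at this
    obtain ⟨y, hy, c, hc, rfl⟩ := h1.frattini' (normalizer_le_normalizer_centralizer U hn)
    have hyU : y ∈ 𝐍⟮U⟯ := by
      have := mul_mem hn (inv_mem (centralizer_le_normalizer _ hc))
      simpa using this
    have hlt : U < U ⊔ (S ⊓ 𝐂⟮U⟯) := by
      refine lt_of_le_of_ne le_sup_left fun e => hZ ?_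
      rw [e]
      exact le_sup_of_le_right (inf_le_inf_left _ (cent_anti hU.1))
    have hle : U ⊔ (S ⊓ 𝐂⟮U⟯) ≤ S := sup_le hU.1 inf_le_left
    have := ih _ hle (card_lt_of_lt hlt) y (mem_top _) (by
      rwa [cj_sup, cj_eq_of_mem_normalizer hyU, cj_eq_of_mem_normalizer hy])
    exact (this.res le_sup_left).mul_cent hc

theorem center_le_zOf_jn_zero (P : Subgroup G) : P ⊓ 𝐂⟮P⟯ ≤ PLocal.zOf (PLocal.jn 0 P) := by
  obtain ⟨A, hA⟩ := PLocal.abFam_nonempty 0 P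
  refine le_inf (fun x hx => ?_) (inf_le_right.trans (cent_anti (PLocal.jn_le _)))
  exact PLocal.abFam.le_jn hA (PLocal.abFam.mem_of_centralizes hA hx.1
    (cent_anti (PLocal.abFam.le hA) hx.2) (pow_zero x))

theorem isConjugacyFunctor_zOf_jn {n : ℕ} (hn : n = 0 ∨ n = p) :
    IsConjugacyFunctor p (fun P : Subgroup G => PLocal.zOf (PLocal.jn n P)) := by
  have := conjFunctor_ind (G := G) (PLocal.isCharPFunctor_zOf_jn (p := p) hn)
  rwa [show inducedFunctor (G := G) (fun (Q : Type u) [Group Q] =>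
    PLocal.zOf (PLocal.jn n (⊤ : Subgroup Q))) = fun P => PLocal.zOf (PLocal.jn n P) from
      funext (PLocal.inducedFunctor_zOf_jn n)] at this

theorem sfc_zj (hp2 : p ≠ 2) {n : ℕ} (hn : n = 0 ∨ n = p)
    (hfree : ¬ IsSectionOf G SL(2, ZMod p)) :
    SFc p {fun (Q : Type u) [Group Q] => PLocal.zOf (PLocal.jn n (⊤ : Subgroup Q))} G := by
  refine sfc_of_constrained (by rintro _ rfl; exact PLocal.isCharPFunctor_zOf_jn hn) G
    (fun X _ _ hX hc => ?_) G (isSectionOf_self G)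
  obtain ⟨T⟩ : Nonempty (Sylow p X) := inferInstance
  refine familySF_iff.2 ⟨T, isSylowIn_top T, ?_⟩
  rw [IF_singleton]
  refine sf_of_normal ?_
  rw [PLocal.inducedFunctor_zOf_jn]
  exact (PLocal.noQuadPair_of_not_isSectionOf hp2 fun h => hfree (hX.trans h)).stabP.zOf_jn_normal
    hp2 hn hc T

/-- `N(Z(J(T)))` controls strong fusion in a subgroup `K` not involving `SL(2,p)`. -/
theorem sf_zj (hp2 : p ≠ 2) {n : ℕ} (hn : n = 0 ∨ n = p) {K T : Subgroup G}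
    (hT : IsSylowIn p T K) (hfree : ¬ IsSectionOf K SL(2, ZMod p)) :
    SF {fun P : Subgroup G => PLocal.zOf (PLocal.jn n P)} K T := by
  have := (sfc_zj hp2 hn hfree).sub
    (by rintro _ rfl; exact PLocal.isCharPFunctor_zOf_jn hn) hT
  rwa [IF_singleton, show inducedFunctor (G := G) (fun (Q : Type u) [Group Q] =>
    PLocal.zOf (PLocal.jn n (⊤ : Subgroup Q))) = fun P => PLocal.zOf (PLocal.jn n P) from
      funext (PLocal.inducedFunctor_zOf_jn n)] at this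

/-- Glauberman's theorem on control of strong fusion by `N(Z(J(S)))`. -/
theorem control_zj (hp2 : p ≠ 2) {n : ℕ} (hn : n = 0 ∨ n = p)
    (hfree : ¬ IsSectionOf G SL(2, ZMod p)) (S : Sylow p G) {A : Subgroup G} (hA : A ≤ S) {g : G}
    (hg : cj g A ≤ S) :
    ∃ x ∈ 𝐍⟮PLocal.zOf (PLocal.jn n (S : Subgroup G))⟯, ∃ c ∈ 𝐂⟮A⟯, g = x * c := by
  have := sf_zj hp2 hn (isSylowIn_top S) fun h => hfree ((PLocal.isSectionOf_subgroup _).trans h)
  obtain ⟨x, hx, c, hc, e⟩ := sf_singleton.1 this A hA g (mem_top _) hg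
  exact ⟨x, hx.2, c, hc, e⟩

/-- Local form: it suffices that the normalizers of the subgroups between `Z(S)` and `S` do not
involve `SL(2,p)`. -/
theorem control_zj_local (hp2 : p ≠ 2) (S : Sylow p G)
    (hfree : ∀ U : Subgroup G, (S : Subgroup G) ⊓ 𝐂⟮(S : Subgroup G)⟯ ≤ U → U ≤ S →
      ¬ IsSectionOf 𝐍⟮U⟯ SL(2, ZMod p)) {A : Subgroup G} (hA : A ≤ S) {g : G}
    (hg : cj g A ≤ S) :
    ∃ x ∈ 𝐍⟮PLocal.zOf (PLocal.jn 0 (S : Subgroup G))⟯, ∃ c ∈ 𝐂⟮A⟯, g = x * c := by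
  have hW := isConjugacyFunctor_zOf_jn (G := G) (p := p) (n := 0) (Or.inl rfl)
  have := sf_of_wp_center hW (fun P _ => center_le_zOf_jn_zero P) (isSylowIn_top S)
    fun U hZ _ hU => sf_zj hp2 (Or.inl rfl) (by
      have := ((wp_iff hW S.isPGroup').1 hU).2.1
      rwa [Extr, top_inf_eq] at this) (hfree U hZ hU.1)
  obtain ⟨x, hx, c, hc, e⟩ := sf_singleton.1 this A hA g (mem_top _) hg
  exact ⟨x, hx.2, c, hc, e⟩

end Cfsg.Agent.Transfer
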